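import Groth.Agent.Lib.MonoEndo20.Core
import Groth.Agent.Lib.Descend.FgModel
import Groth.Agent.Lib.LimH13.Hom
import Groth.Agent.S2579

/-!
# Reduction of monomorphic endomorphisms to the finite type case over the integers
-/

universe u

open CategoryTheory CategoryTheory.Limits AlgebraicGeometry Opposite

set_option backward.isDefEq.respectTransparency false
set_option backward.isDefEq.respectTransparency.types false
set_option backward.defeqAttrib.useBackward true

noncomputable section

namespace Groth.Agent.MonoEndo20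

/-- The core statement over a finitely generated ring. -/
theorem isIso_of_fg {A : Type u} [CommRing A] [Algebra.FiniteType ℤ A] {X : Scheme.{u}}
    (f : X ⟶ Spec (CommRingCat.of A)) [LocallyOfFiniteType f] [QuasiCompact f]
    (g : X ⟶ X) (hg : g ≫ f = f) [Mono g] : IsIso g := by
  haveI : CompactSpace X := QuasiCompact.compactSpace_of_compactSpace f
  let j := Spec.map (CommRingCat.ofHom ((algebraMap ℤ A).comp ((ULift.ringEquiv (R := ℤ)) :
    ULift.{u} ℤ →+* ℤ)))
  haveI : LocallyOfFiniteType j := by
    rw [HasRingHomProperty.Spec_iff (P := @LocallyOfFiniteType)]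
    exact RingHom.FiniteType.comp (RingHom.finiteType_algebraMap.mpr ‹_›)
      (RingHom.FiniteType.of_surjective _ (ULift.ringEquiv (R := ℤ)).surjective)
  exact isIso_of_mono (f ≫ j) g (by rw [← Category.assoc, hg])

/-- The affine case. -/
theorem isIso_of_affine {A : Type u} [CommRing A] {X : Scheme.{u}} (f : X ⟶ Spec (CommRingCat.of A))
    [LocallyOfFinitePresentation f] [QuasiCompact f] [QuasiSeparated f]
    (g : X ⟶ X) (hg : g ≫ f = f) [Mono g] : IsIso g := by
  let D := (Descend.fgRing A).op ⋙ Scheme.Spec
  let c : Cone D := Scheme.Spec.mapCone (Descend.fgCocone A).op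
  have hc : IsLimit c := isLimitOfPreserves Scheme.Spec (Descend.isColimitFgCocone A).op
  haveI : ∀ i, IsAffine (D.obj i) := fun i => inferInstanceAs (IsAffine (Spec _))
  haveI : ∀ {i j} (a : i ⟶ j), IsAffineHom (D.map a) := fun a => inferInstance
  haveI : ∀ (i j) (a : i ⟶ j), IsAffineHom (D.map a) := fun i j a => inferInstance
  haveI : IsCofiltered (Descend.FgIdx A)ᵒᵖ := by
    haveI : IsFiltered (Descend.FgIdx A) := isFiltered_of_directed_le_nonempty _
    infer_instance
  obtain ⟨i, Xi, fi, qX, hfi, hfiqc, hfiqs, hX⟩ := S0591.result D c hc X f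
  haveI : CompactSpace Xi := QuasiCompact.compactSpace_of_compactSpace fi
  haveI : QuasiSeparatedSpace Xi := quasiSeparatedSpace_of_quasiSeparated fi
  obtain ⟨j, φ, gj, sX, sY, hgj, hsX1, hsX2, hsY1, hsY2, hcomm⟩ :=
    LimH13.exists_hom_descend hc i fi fi qX f hX qX f hX g hg
  obtain rfl : sX = sY := pullback.hom_ext (hsX1.trans hsY1.symm) (hsX2.trans hsY2.symm)
  let xj := pullback.snd fi (D.map φ)
  haveI : LocallyOfFinitePresentation xj := MorphismProperty.pullback_snd _ _ hfi
  haveI : QuasiCompact xj := MorphismProperty.pullback_snd _ _ hfiqc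
  haveI : QuasiSeparated xj := MorphismProperty.pullback_snd _ _ hfiqs
  haveI : LocallyOfFinitePresentation (gj ≫ xj) := by rw [hgj]; infer_instance
  haveI : QuasiCompact (gj ≫ xj) := by rw [hgj]; infer_instance
  haveI : QuasiSeparated (gj ≫ xj) := by rw [hgj]; infer_instance
  have hXj : IsPullback sX f xj (c.π.app j) := by
    refine IsPullback.of_right ?_ hsX2 (IsPullback.of_hasPullback fi (D.map φ))
    rw [hsX1, c.w]
    exact hX
  have hgsq : IsPullback sX g gj sX := by
    refine IsPullback.of_bot ?_ hcomm hXj
    rw [hg, hgj]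
    exact hXj
  haveI : CompactSpace (D.obj j) := inferInstance
  haveI : QuasiSeparatedSpace (D.obj j) := inferInstance
  obtain ⟨k, ψ, Xk, Yk, gk, yk, pY, pX, hYk, hXk, hmono⟩ :=
    S2579.result D c hc j gj xj g f sX sX hXj hgsq
  have hXk' : IsPullback pX (gk ≫ yk) xj (D.map ψ) := by
    have := hXk.paste_vert hYk
    rwa [hgj] at this
  let e : Yk ≅ Xk := hYk.isoIsPullback _ _ hXk'
  haveI : Mono gk := hmono
  haveI : LocallyOfFinitePresentation yk := MorphismProperty.of_isPullback hYk inferInstance
  haveI : QuasiCompact yk := MorphismProperty.of_isPullback hYk inferInstance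
  haveI : Algebra.FiniteType ℤ k.unop.1 := (Subalgebra.fg_iff_finiteType _).mp k.unop.2
  have he : (e.hom ≫ gk) ≫ yk = yk := by
    rw [Category.assoc]
    exact IsPullback.isoIsPullback_hom_snd _ _ hYk hXk'
  haveI : IsIso (e.hom ≫ gk) := isIso_of_fg (A := k.unop.1) yk (e.hom ≫ gk) he
  haveI : IsIso gk := IsIso.of_isIso_comp_left e.hom gk
  let qY : X ⟶ Yk := hYk.lift sX (f ≫ c.π.app k) (by rw [Category.assoc, c.w, hXj.w])
  have hq : qY ≫ pY = sX := hYk.lift_fst _ _ _
  have htop : IsPullback (hXk.lift sX (g ≫ qY) (by rw [Category.assoc, hq, hgsq.w])) g gk qY := by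
    refine IsPullback.of_right ?_ (hXk.lift_snd _ _ _) hXk
    rw [hXk.lift_fst, hq]
    exact hgsq
  exact MorphismProperty.of_isPullback (P := MorphismProperty.isomorphisms Scheme.{u}) htop
    (inferInstanceAs (IsIso gk))

/-- A monomorphic endomorphism of a scheme of finite presentation over a base is an isomorphism. -/
theorem isIso_of_mono_endo {X S : Scheme.{u}} (f : X ⟶ S)
    [LocallyOfFinitePresentation f] [QuasiCompact f] [QuasiSeparated f]
    (g : X ⟶ X) (hg : g ≫ f = f) [Mono g] : IsIso g := by
  show MorphismProperty.isomorphisms Scheme.{u} g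
  refine (IsZariskiLocalAtTarget.iff_of_openCover (P := MorphismProperty.isomorphisms Scheme.{u})
    (S.affineCover.pullback₁ f)).mpr fun i => ?_
  let a := S.affineCover.f i
  let g' : pullback f a ⟶ pullback f a := pullback.lift (pullback.fst f a ≫ g) (pullback.snd f a)
    (by rw [Category.assoc, hg, pullback.condition])
  have hsq : IsPullback g' (pullback.fst f a) (pullback.fst f a) g := by
    refine IsPullback.of_right ?_ (pullback.lift_fst _ _ _) (IsPullback.of_hasPullback f a).flip
    rw [pullback.lift_snd, hg]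
    exact (IsPullback.of_hasPullback f a).flip
  haveI : Mono g' := MorphismProperty.of_isPullback (P := MorphismProperty.monomorphisms Scheme.{u}) hsq.flip
    (inferInstanceAs (Mono g))
  haveI : IsIso g' := isIso_of_affine (pullback.snd f a) g' (pullback.lift_snd _ _ _)
  let e := hsq.flip.isoPullback
  show IsIso (pullback.snd g (pullback.fst f a))
  rw [← IsPullback.isoPullback_inv_snd hsq.flip]
  infer_instance

end Groth.Agent.MonoEndo20
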