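import Groth.Agent.Lib.Zeta25.ClosedPoints
import Groth.Agent.Lib.FormalH7.FlatCplMap
import Groth.Agent.Lib.FlatH4.FlatLocusScheme
import Groth.Agent.Lib.LimH13.ArrowModel
import Mathlib.AlgebraicGeometry.Morphisms.FlatMono
import Mathlib.RingTheory.Ideal.Quotient.Index

/-!
# A monomorphism from a scheme of finite type over the integers to itself is an isomorphism
-/

universe u

open CategoryTheory CategoryTheory.Limits AlgebraicGeometry IsLocalRing

set_option backward.isDefEq.respectTransparency false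
set_option backward.isDefEq.respectTransparency.types false

noncomputable section

namespace Groth.Agent.MonoEndo20

theorem finite_ringHom {n : ℕ} {B A : Type*} [CommRing B] [CommRing A] [Finite A]
    (e : MvPolynomial (Fin n) ℤ →+* B) (he : Function.Surjective e) : Finite (B →+* A) :=
  Finite.of_injective (fun φ : B →+* A => fun i => φ (e (MvPolynomial.X i))) fun φ ψ h => by
    rw [← RingHom.cancel_right he]
    exact MvPolynomial.ringHom_ext' (RingHom.ext_int _ _) fun i => congrFun h i

theorem isJacobsonRing_ulift_int : IsJacobsonRing (ULift.{u} ℤ) :=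
  haveI := Zeta25.int_jacobson
  (isJacobsonRing_iso (ULift.ringEquiv (R := ℤ))).mpr inferInstance

instance : IsNoetherianRing (ULift.{u} ℤ) :=
  isNoetherianRing_of_ringEquiv ℤ (ULift.ringEquiv (R := ℤ)).symm

variable {X : Scheme.{u}} (f : X ⟶ Spec (CommRingCat.of (ULift.{u} ℤ))) [LocallyOfFiniteType f]

include f in
/-- Points with values in a finite local ring are finitely many. -/
theorem finite_points [CompactSpace X] (A : CommRingCat.{u}) [IsLocalRing A] [Finite A] :
    Finite (Spec A ⟶ X) := by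
  classical
  obtain ⟨s, hs⟩ := isCompact_univ.elim_finite_subcover (fun U : X.affineOpens => (U.1 : Set X))
    (fun U => U.1.2) (fun x _ => by
      obtain ⟨U, hU, hxU, -⟩ := exists_isAffineOpen_mem_and_subset (x := x) (U := ⊤) trivial
      exact Set.mem_iUnion.mpr ⟨⟨U, hU⟩, hxU⟩)
  haveI : ∀ U : ↥s, Finite ((Γ(X, U.1.1) : Type u) →+* A) := fun U => by
    obtain ⟨n, e, he⟩ := Zeta25.exists_surjective_sections f U.1.2
    exact finite_ringHom e he
  refine Finite.of_surjective (α := Σ U : ↥s, ((Γ(X, U.1.1) : Type u) →+* A))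
    (fun p => Spec.map (CommRingCat.ofHom p.2) ≫ p.1.1.2.fromSpec) fun h => ?_
  obtain ⟨U, hU⟩ := Set.mem_iUnion.mp (hs (Set.mem_univ (h (closedPoint A))))
  obtain ⟨hUs, hU⟩ := Set.mem_iUnion.mp hU
  have hr : Set.range h ⊆ Set.range U.2.fromSpec := by
    rw [U.2.range_fromSpec]
    rintro _ ⟨z, rfl⟩
    exact ((IsLocalRing.specializes_closedPoint z).map h.continuous).mem_open U.1.2 hU
  refine ⟨⟨⟨U, hUs⟩, (Spec.preimage (IsOpenImmersion.lift U.2.fromSpec h hr)).hom⟩, ?_⟩
  show Spec.map (Spec.preimage (IsOpenImmersion.lift U.2.fromSpec h hr)) ≫ _ = h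
  rw [Spec.map_preimage, IsOpenImmersion.lift_fac]

include f in
theorem isLocallyNoetherian : IsLocallyNoetherian X :=
  LocallyOfFiniteType.isLocallyNoetherian f

include f in
theorem jacobsonSpace : JacobsonSpace X :=
  haveI : IsJacobsonRing (CommRingCat.of (ULift.{u} ℤ)) := isJacobsonRing_ulift_int
  LocallyOfFiniteType.jacobsonSpace f

variable (g : X ⟶ X) [Mono g] [CompactSpace X]

include f in
/-- Truncations of closed points lift through a monomorphism of a scheme to itself. -/
theorem exists_lift_point {y : X} (hy : IsClosed ({y} : Set X)) (n : ℕ) :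
    ∃ h : Spec (CommRingCat.of (X.presheaf.stalk y ⧸ maximalIdeal (X.presheaf.stalk y) ^ (n + 1))) ⟶ X,
      h ≫ g = Spec.map (CommRingCat.ofHom (Ideal.Quotient.mk _)) ≫ X.fromSpecStalk y := by
  haveI := isLocallyNoetherian f
  haveI : Finite (X.presheaf.stalk y ⧸ maximalIdeal (X.presheaf.stalk y)) :=
    Zeta25.finite_residueField f hy
  haveI : Finite (X.presheaf.stalk y ⧸ maximalIdeal (X.presheaf.stalk y) ^ (n + 1)) :=
    Ideal.finite_quotient_pow (IsNoetherian.noetherian _) _
  haveI : Nontrivial (X.presheaf.stalk y ⧸ maximalIdeal (X.presheaf.stalk y) ^ (n + 1)) :=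
    Ideal.Quotient.nontrivial_iff.mpr fun h => (maximalIdeal.isMaximal _).ne_top
      (top_le_iff.mp (h.ge.trans (Ideal.pow_le_self n.succ_ne_zero)))
  haveI : IsLocalRing (X.presheaf.stalk y ⧸ maximalIdeal (X.presheaf.stalk y) ^ (n + 1)) :=
    IsLocalRing.of_surjective' (Ideal.Quotient.mk _) Ideal.Quotient.mk_surjective
  let A := CommRingCat.of (X.presheaf.stalk y ⧸ maximalIdeal (X.presheaf.stalk y) ^ (n + 1))
  haveI : Finite (Spec A ⟶ X) := finite_points f A
  exact (Finite.injective_iff_surjective.mp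
    (fun a b (h : a ≫ g = b ≫ g) => (cancel_mono g).mp h)) _

omit [CompactSpace X] in
theorem exists_eq_specMap {A : CommRingCat.{u}} [IsLocalRing A] (h : Spec A ⟶ X) :
    ∀ x : X, h (closedPoint A) = x →
      ∃ ψ : X.presheaf.stalk x ⟶ A, Spec.map ψ ≫ X.fromSpecStalk x = h := by
  rintro _ rfl
  exact ⟨_, Scheme.Spec_stalkClosedPointTo_fromSpecStalk h⟩

omit [CompactSpace X] [Mono g] in
theorem apply_closedPoint_lift {y : X} {n : ℕ}
    [IsLocalRing (X.presheaf.stalk y ⧸ maximalIdeal (X.presheaf.stalk y) ^ (n + 1))]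
    {h : Spec (CommRingCat.of (X.presheaf.stalk y ⧸ maximalIdeal (X.presheaf.stalk y) ^ (n + 1))) ⟶ X}
    (hh : h ≫ g = Spec.map (CommRingCat.ofHom (Ideal.Quotient.mk _)) ≫ X.fromSpecStalk y) :
    g (h (closedPoint _)) = y := by
  haveI : IsLocalHom (CommRingCat.ofHom
      (Ideal.Quotient.mk (maximalIdeal (X.presheaf.stalk y) ^ (n + 1)))).hom :=
    IsLocalHom.of_surjective _ Ideal.Quotient.mk_surjective
  rw [← Scheme.Hom.comp_apply, hh, Scheme.Hom.comp_apply]
  exact (congrArg (X.fromSpecStalk y) (IsLocalRing.comap_closedPoint _)).trans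
    Scheme.fromSpecStalk_closedPoint

include f in
/-- A monomorphism of a scheme to itself is flat at the points over closed points. -/
theorem flat_stalkMap {x : X} (hx : IsClosed ({g x} : Set X)) : (g.stalkMap x).hom.Flat := by
  haveI := isLocallyNoetherian f
  set φ := (g.stalkMap x).hom
  haveI : IsLocalHom φ := inferInstanceAs (IsLocalHom (g.stalkMap x).hom)
  refine FormalH7.ringHomFlat_of_forall_flat_quotient_pow φ (maximalIdeal _) ?_ fun n => ?_
  · rw [jacobson_eq_maximalIdeal _ bot_ne_top]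
    exact ((local_hom_TFAE φ).out 0 2).mp ‹_›
  rcases n with _ | n
  · haveI : Subsingleton (X.presheaf.stalk (g x) ⧸ maximalIdeal (X.presheaf.stalk (g x)) ^ 0) :=
      Ideal.Quotient.subsingleton_iff.2 (by simp)
    haveI : Subsingleton (X.presheaf.stalk x ⧸ (maximalIdeal (X.presheaf.stalk (g x)) ^ 0).map φ) :=
      Ideal.Quotient.subsingleton_iff.2 (by simp [Ideal.map_top])
    exact RingHom.Flat.of_bijective ⟨fun a b _ => Subsingleton.elim _ _,
      fun b => ⟨0, Subsingleton.elim _ _⟩⟩
  obtain ⟨h, hh⟩ := exists_lift_point f g hx n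
  let I := maximalIdeal (X.presheaf.stalk (g x)) ^ (n + 1)
  haveI : Nontrivial (X.presheaf.stalk (g x) ⧸ I) :=
    Ideal.Quotient.nontrivial_iff.mpr fun h => (maximalIdeal.isMaximal _).ne_top
      (top_le_iff.mp (h.ge.trans (Ideal.pow_le_self n.succ_ne_zero)))
  haveI : IsLocalRing (X.presheaf.stalk (g x) ⧸ I) :=
    IsLocalRing.of_surjective' (Ideal.Quotient.mk _) Ideal.Quotient.mk_surjective
  obtain ⟨ψ, hψ⟩ := exists_eq_specMap h x (g.injective (apply_closedPoint_lift g hh))
  have h1 : g.stalkMap x ≫ ψ = CommRingCat.ofHom (Ideal.Quotient.mk I) := by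
    apply Spec.map_injective
    rw [← cancel_mono (X.fromSpecStalk (g x)), Spec.map_comp, Category.assoc,
      Scheme.SpecMap_stalkMap_fromSpecStalk, ← Category.assoc, hψ, hh]
  let q := CommRingCat.ofHom (Ideal.Quotient.mk (I.map φ))
  let φn := CommRingCat.ofHom (Ideal.quotientMap (I.map φ) φ Ideal.le_comap_map)
  have h2 : q = ψ ≫ φn := by
    apply Spec.map_injective
    rw [← cancel_mono (X.fromSpecStalk x), ← cancel_mono g]
    simp only [Category.assoc, ← Scheme.SpecMap_stalkMap_fromSpecStalk g (x := x)]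
    rw [← Spec.map_comp_assoc, ← Spec.map_comp_assoc, ← Category.assoc (g.stalkMap x), h1]
    congr 2
  have hk : I.map φ ≤ RingHom.ker ψ.hom := by
    rw [Ideal.map_le_iff_le_comap]
    intro a ha
    have := ConcreteCategory.congr_hom h1 a
    exact this.trans ((Ideal.Quotient.eq_zero_iff_mem).mpr ha)
  refine RingHom.Flat.of_bijective ⟨fun a b hab => ?_, fun b => ?_⟩
  · have key : ∀ a, Ideal.Quotient.lift (I.map φ) ψ.hom hk
        (Ideal.quotientMap (I.map φ) φ Ideal.le_comap_map a) = a := by
      intro a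
      obtain ⟨a, rfl⟩ := Ideal.Quotient.mk_surjective a
      exact ConcreteCategory.congr_hom h1 a
    rw [← key a, ← key b, hab]
  · obtain ⟨b, rfl⟩ := Ideal.Quotient.mk_surjective b
    exact ⟨ψ b, (ConcreteCategory.congr_hom h2 b).symm⟩

/-- **Monomorphisms of a scheme of finite type over `ℤ` to itself are isomorphisms.** -/
theorem isIso_of_mono (hg : g ≫ f = f) : IsIso g := by
  haveI := isLocallyNoetherian f
  haveI := jacobsonSpace f
  haveI : LocallyOfFiniteType (g ≫ f) := by rw [hg]; infer_instance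
  haveI : LocallyOfFiniteType g := locallyOfFiniteType_of_comp g f
  haveI : LocallyOfFinitePresentation g := LimH13.locallyOfFinitePresentation_of_noetherian g
  have hflat : ∀ x, (g.stalkMap x).hom.Flat := by
    by_contra hcon
    push Not at hcon
    obtain ⟨x, hx⟩ := hcon
    obtain ⟨z, hz, hzc⟩ := (FlatH4.isOpen_flatLocus g).isClosed_compl.exists_closed_singleton ⟨x, hx⟩
    exact hz (flat_stalkMap f g (Scheme.Hom.closePoints_subset_preimage_closedPoints g hzc))
  haveI : Flat g := Flat.of_stalkMap _ hflat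
  haveI : IsOpenImmersion g := IsOpenImmersion.of_flat_of_mono g
  have hsurj : Function.Surjective g := by
    intro x
    by_contra hcon
    obtain ⟨z, hz, hzc⟩ := g.isOpenEmbedding.isOpen_range.isClosed_compl.exists_closed_singleton
      ⟨x, hcon⟩
    obtain ⟨h, hh⟩ := exists_lift_point f g hzc 0
    haveI : Nontrivial (X.presheaf.stalk z ⧸ maximalIdeal (X.presheaf.stalk z) ^ (0 + 1)) :=
      Ideal.Quotient.nontrivial_iff.mpr fun h => (maximalIdeal.isMaximal _).ne_top
        (top_le_iff.mp (h.ge.trans (Ideal.pow_le_self (Nat.succ_ne_zero 0))))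
    haveI : IsLocalRing (X.presheaf.stalk z ⧸ maximalIdeal (X.presheaf.stalk z) ^ (0 + 1)) :=
      IsLocalRing.of_surjective' (Ideal.Quotient.mk _) Ideal.Quotient.mk_surjective
    exact hz ⟨_, apply_closedPoint_lift g hh⟩
  haveI : Epi g.base := (TopCat.epi_iff_surjective _).mpr hsurj
  exact IsOpenImmersion.isIso g

end Groth.Agent.MonoEndo20
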