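import Groth.Agent.Lib.MonoEndo20.Descent
import Groth.Agent.Lib.GrpQuot20.OverQuot
import Mathlib.CategoryTheory.Monoidal.Grp

/-!
# Monomorphic endomorphisms of products over a factor
-/

universe u

open CategoryTheory CategoryTheory.Limits MonoidalCategory CartesianMonoidalCategory AlgebraicGeometry

set_option backward.isDefEq.respectTransparency false
set_option backward.isDefEq.respectTransparency.types false

noncomputable section

namespace Groth.Agent.MonoEndo20

/-- A monomorphic endomorphism of `T ⊗ X` over `T` is an isomorphism. -/
theorem isIso_of_mono_over_fst {S : Scheme.{u}} {T X : Over S} [LocallyOfFinitePresentation X.hom]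
    [QuasiCompact X.hom] [QuasiSeparated X.hom] (φ : T ⊗ X ⟶ T ⊗ X) (hφ : φ ≫ fst T X = fst T X)
    [Mono φ] : IsIso φ := by
  haveI : LocallyOfFinitePresentation (fst T X).left :=
    inferInstanceAs (LocallyOfFinitePresentation (Limits.pullback.fst T.hom X.hom))
  haveI : QuasiCompact (fst T X).left :=
    inferInstanceAs (QuasiCompact (Limits.pullback.fst T.hom X.hom))
  haveI : QuasiSeparated (fst T X).left :=
    inferInstanceAs (QuasiSeparated (Limits.pullback.fst T.hom X.hom))
  haveI : Mono φ.left := Over.mono_left_of_mono φ
  haveI : IsIso φ.left := isIso_of_mono_endo (fst T X).left φ.left (by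
    rw [← Over.comp_left, hφ])
  haveI : IsIso ((Over.forget S).map φ) := inferInstanceAs (IsIso φ.left)
  exact isIso_of_reflects_iso φ (Over.forget S)

end Groth.Agent.MonoEndo20
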